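import Cfsg.Agent.H331.IF.Tf

/-!
# S5719: chains of orthogonal roots in the centralizer of an involution (helper331)

* `Good` : chains; `phi_chain`, `card_chain`;
* `exists_mem` : a subgroup of small fixity which contains `t` contains an element of `Zs`.
-/

set_option autoImplicit false
set_option linter.unusedSectionVars false
set_option linter.unusedVariables false

namespace Cfsg.Agent.H331.IF

open CoxeterSystem Cfsg.Agent.ChevalleyStructure.CoxeterGeom Cfsg.Agent.Tits.Roots Cfsg.Agent.Tits.Core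
  Cfsg.Agent.Tits.Exchange Cfsg.Agent.Nodes.Reps Cfsg.Agent.Nodes.BNOf Cfsg.Agent.Nodes.StabComb
  Cfsg.Agent.Nodes.Bruhat Cfsg.Agent.Nodes.OppDec Cfsg.Agent.Nodes.PosPair Cfsg.Agent.Nodes.Coroot
  Cfsg.Agent.Nodes.Unique Cfsg.Agent.KFacts.RgdSL Cfsg.Agent.H557.LrSgn
open Cfsg.Agent.H203.IF Cfsg.Agent.H190.IF
open Cfsg.Agent.H557.LrMov (Cn conj_mem_X inv_eq)
open Subgroup (centralizer mem_inf mem_centralizer_singleton_iff)
open scoped commutatorElement

variable {I W Y : Type*} [Fintype I] [DecidableEq I] [Group W] [Group Y] {M : CoxeterMatrix I}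
  {cs : CoxeterSystem M W} {A : I → I → ℤ} {h : IsCartan M A} {p : ℕ} {T : Subgroup Y} {n : I → Y}
  {X : (I → ℤ) → Subgroup Y}

/-- a chain of levels -/
def Good [Finite W] (cs : CoxeterSystem M W) (h : IsCartan M A) (X : (I → ℤ) → Subgroup Y) (t : Y) (w : W) (q : ℕ) :
    List (I → ℤ) → List ((I → ℤ) × ℕ) → Prop
  | _, [] => True
  | C, (α, d) :: l => Lev cs h X t w C α ∧ (q ^ (2 * d + 1) ≤ Nat.card (BF cs h X C α t) ∧
      q ^ (2 * d + 1) ≤ Nat.card (BF cs h X C (-α) t)) ∧ Good cs h X t w q (α :: C) l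

/-- `Σ (d + 1)` -/
def sd (l : List ((I → ℤ) × ℕ)) : ℕ := (l.map fun x => x.2 + 1).sum

/-- `Σ (2 d + 1)` -/
def s2 (l : List ((I → ℤ) × ℕ)) : ℕ := (l.map fun x => 2 * x.2 + 1).sum

theorem Phi.one [Finite Y] (L : Subgroup Y) (Zs : Set Y) : Phi L Zs 1 := by
  intro Y' _ _
  have := rel_ne Y' L
  omega

section

variable [Finite W] [Finite Y] (R : RGD cs h p T n X) (hs : SL cs h)
  (hab : ∀ α, IsRoot cs h α → ∀ u ∈ X α, ∀ v ∈ X α, u * v = v * u) {q : ℕ}
  (hcard : ∀ α, IsRoot cs h α → Nat.card (X α) = q) (hodd : Odd q) {t : Y} {w : W} (ht : TA cs h X t w)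

include R hs hab hcard hodd ht

/-- **the index of subgroups without elements of `Zs`** -/
theorem phi_chain {Zs : Set Y} (hZ2 : ∀ z ∈ Zs, z * z = 1) (hZc : ∀ g : Y, ∀ z ∈ Zs, g * z * g⁻¹ ∈ Zs) :
    ∀ (l : List ((I → ℤ) × ℕ)) (C : List (I → ℤ)), (∀ c ∈ C, IsRoot cs h c) → (∀ c ∈ C, rep cs h w c = c) →
      Good cs h X t w q C l →
      (∀ x ∈ l, ∀ u ∈ X x.1, ∀ v ∈ X (-x.1), u ≠ 1 → v ≠ 1 → ∃ z ∈ Zs, z ∈ Subgroup.closure {u, v}) →
      Phi (LC cs h X C t) Zs (q ^ sd l) := by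
  intro l
  induction l with
  | nil =>
    intro C _ _ _ _
    exact Phi.one _ _
  | cons x l ih =>
    obtain ⟨α, d⟩ := x
    intro C hC hCw hG hop
    obtain ⟨hL, ⟨h1, h2⟩, hG'⟩ := hG
    have h3 := ih (α :: C) (fun c hc => by
      rcases List.mem_cons.1 hc with rfl | hc
      · exact hL.mem.1
      · exact hC c hc) (fun c hc => by
      rcases List.mem_cons.1 hc with rfl | hc
      · exact hL.fix
      · exact hCw c hc) hG' (fun x hx => hop x (List.mem_cons_of_mem _ hx))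
    have e : q ^ sd ((α, d) :: l) = q ^ (d + 1) * q ^ sd l := by
      unfold sd
      rw [List.map_cons, List.sum_cons, pow_add]
    rw [e]
    refine lc_step R hs hab hcard hodd ht hC hCw hL ?_ ?_ hZ2 hZc (hop _ List.mem_cons_self) h3
    · calc (q ^ (d + 1)) ^ 2 = q ^ (2 * d + 1) * q := by ring
        _ ≤ _ := Nat.mul_le_mul_right _ h1
    · calc (q ^ (d + 1)) ^ 2 = q ^ (2 * d + 1) * q := by ring
        _ ≤ _ := Nat.mul_le_mul_right _ h2

end

/-! ### orders -/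

/-- the roots of the Heisenberg groups of a chain -/
def EE [Finite W] (cs : CoxeterSystem M W) (h : IsCartan M A) (ε : ℤ) : List (I → ℤ) → List ((I → ℤ) × ℕ) → Set (I → ℤ)
  | _, [] => ∅
  | C, (α, _) :: l => {b | b ∈ EC cs h C ∧ 0 < ε * cpr cs h b α} ∪ EE cs h ε (α :: C) l

theorem EE_sub [Finite W] (ε : ℤ) : ∀ (l : List ((I → ℤ) × ℕ)) (C : List (I → ℤ)), EE cs h ε C l ⊆ EC cs h C := by
  intro l
  induction l with
  | nil => intro C x hx; exact absurd hx (by simp [EE])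
  | cons x l ih =>
    obtain ⟨α, d⟩ := x
    intro C b hb
    rcases hb with hb | hb
    · exact hb.1
    · exact EC_mono α C (ih _ hb)

theorem exists_lam [Finite W] : ∀ (l : List ((I → ℤ) × ℕ)) (C : List (I → ℤ)), (∀ x ∈ l, IsRoot cs h x.1) →
    ∃ lam : (I → ℤ) →+ ℤ, ∀ ε : ℤ, (ε = 1 ∨ ε = -1) → ∀ b ∈ EE cs h ε C l, 0 < ε * lam b := by
  classical
  intro l
  induction l with
  | nil =>
    intro C _
    exact ⟨0, fun ε _ b hb => absurd hb (by simp [EE])⟩
  | cons x l ih =>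
    obtain ⟨α, d⟩ := x
    intro C hl
    have hα : IsRoot cs h α := hl _ List.mem_cons_self
    obtain ⟨lam, hlam⟩ := ih (α :: C) (fun x hx => hl x (List.mem_cons_of_mem _ hx))
    have hfin := RGD.finite_roots (cs := cs) (h := h)
    obtain ⟨N, hN⟩ : ∃ N : ℤ, ∀ x, IsRoot cs h x → |lam x| < N := by
      refine ⟨1 + ∑ x ∈ hfin.toFinset, |lam x|, fun x hx => ?_⟩
      have h1 : |lam x| ≤ ∑ x ∈ hfin.toFinset, |lam x| :=
        Finset.single_le_sum (f := fun x : I → ℤ => |lam x|) (fun i _ => abs_nonneg _)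
          (hfin.mem_toFinset.2 hx)
      omega
    refine ⟨N • ell cs h hα + lam, fun ε hε b hb => ?_⟩
    have hval : (N • ell cs h hα + lam : (I → ℤ) →+ ℤ) b = N * cpr cs h b α + lam b := by
      rw [AddMonoidHom.add_apply, AddMonoidHom.smul_apply, smul_eq_mul, ell_apply]
    rw [hval]
    rcases hb with ⟨hb, hb'⟩ | hb
    · have h1 := hN b hb.1
      have h2 := neg_abs_le (lam b)
      have h3 := le_abs_self (lam b)
      have h4 := abs_nonneg (lam b)
      rcases hε with rfl | rfl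
      · have h5 : 1 ≤ cpr cs h b α := by linarith
        nlinarith
      · have h5 : cpr cs h b α ≤ -1 := by linarith
        nlinarith
    · have h1 := hlam ε hε b hb
      have h2 : cpr cs h b α = 0 := (EE_sub ε l (α :: C) hb).2 α List.mem_cons_self
      rw [h2]
      simpa using h1

section

variable [Finite W] [Finite Y] (R : RGD cs h p T n X) (hs : SL cs h)
  (hab : ∀ α, IsRoot cs h α → ∀ u ∈ X α, ∀ v ∈ X α, u * v = v * u) {q : ℕ}
  (hcard : ∀ α, IsRoot cs h α → Nat.card (X α) = q) (hodd : Odd q) {t : Y} {w : W}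

include R

theorem card_half {ε : ℤ} (hε : ε = 1 ∨ ε = -1) : ∀ (l : List ((I → ℤ) × ℕ)) (C : List (I → ℤ)),
    (∀ c ∈ C, IsRoot cs h c) → Good cs h X t w q C l →
      q ^ s2 l ≤ Nat.card (RGD.Sup X (EE cs h ε C l) ⊓ centralizer {t} : Subgroup Y) := by
  intro l
  induction l with
  | nil =>
    intro C _ _
    have e : q ^ s2 ([] : List ((I → ℤ) × ℕ)) = 1 := by simp [s2]
    rw [e]
    exact Nat.card_pos
  | cons x l ih =>
    obtain ⟨α, d⟩ := x
    intro C hC hG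
    have hroots : ∀ (l : List ((I → ℤ) × ℕ)) (C : List (I → ℤ)), Good cs h X t w q C l → ∀ x ∈ l, IsRoot cs h x.1 := by
      intro l
      induction l with
      | nil => intro C _ x hx; exact absurd hx (List.not_mem_nil)
      | cons y l ih' =>
        obtain ⟨β, e⟩ := y
        intro C hG x hx
        obtain ⟨hL, -, hG'⟩ := hG
        rcases List.mem_cons.1 hx with rfl | hx
        · exact hL.mem.1
        · exact ih' _ hG' x hx
    have hlr := hroots _ _ hG
    obtain ⟨hL, ⟨h1, h2⟩, hG'⟩ := hG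
    have hα := hL.mem.1
    have h3 := ih (α :: C) (fun c hc => by
      rcases List.mem_cons.1 hc with rfl | hc
      · exact hα
      · exact hC c hc) hG'
    obtain ⟨lam, hlam⟩ := exists_lam (cs := cs) (h := h) l (α :: C) (fun x hx => hlr x (List.mem_cons_of_mem _ hx))
    have hB : ∃ B : Subgroup Y, q ^ (2 * d + 1) ≤ Nat.card B ∧ B ≤ centralizer {t} ∧
        B ≤ RGD.Sup X {b | b ∈ EC cs h C ∧ 0 < ε * cpr cs h b α} := by
      rcases hε with rfl | rfl
      · refine ⟨_, h1, inf_le_right, inf_le_left.trans (Heis.QQ_le (RGD.le_Sup ⟨hL.mem, ?_⟩)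
          fun β hβ => RGD.le_Sup ⟨(mem_SF.1 hβ).1, ?_⟩)⟩
        · rw [cpr_self cs h hα]; norm_num
        · rw [(mem_SF.1 hβ).2]; norm_num
      · refine ⟨_, h2, inf_le_right, inf_le_left.trans (Heis.QQ_le (RGD.le_Sup ⟨EC_neg hC hL.mem, ?_⟩)
          fun β hβ => RGD.le_Sup ⟨(mem_SF.1 hβ).1, ?_⟩)⟩
        · rw [cpr_neg_left _ hα, cpr_self cs h hα]; norm_num
        · have h4 := (mem_SF.1 hβ).2
          rw [cpr_neg_right cs h β hα] at h4
          omega
    obtain ⟨B, hB1, hB2, hB3⟩ := hB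
    have h4 : Nat.card B * Nat.card (RGD.Sup X (EE cs h ε (α :: C) l) ⊓ centralizer {t} : Subgroup Y) ≤
        Nat.card (RGD.Sup X (EE cs h ε C ((α, d) :: l)) ⊓ centralizer {t} : Subgroup Y) := by
      refine card_disj (le_inf (hB3.trans (RGD.Sup_mono fun b hb => Or.inl hb)) hB2)
        (inf_le_inf (RGD.Sup_mono fun b hb => Or.inr hb) le_rfl) ?_
      intro x hx hx'
      refine Cfsg.Agent.Nodes.Slope.sup_inf_sup' R (ε • ell cs h hα) (ε • lam)
        (RGD.Sup_mono ?_ (hB3 hx)) (RGD.Sup_mono ?_ (mem_inf.1 hx').1)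
      · rintro b ⟨hb, hb'⟩
        refine ⟨hb.1, ?_⟩
        rw [AddMonoidHom.smul_apply, smul_eq_mul, ell_apply]
        exact hb'
      · intro b hb
        have h5 := EE_sub ε l (α :: C) hb
        refine ⟨h5.1, ?_, ?_⟩
        · rw [AddMonoidHom.smul_apply, smul_eq_mul, ell_apply, h5.2 α List.mem_cons_self, mul_zero]
        · rw [AddMonoidHom.smul_apply, smul_eq_mul]
          exact hlam ε hε b hb
    have e : q ^ s2 ((α, d) :: l) = q ^ (2 * d + 1) * q ^ s2 l := by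
      unfold s2
      rw [List.map_cons, List.sum_cons, pow_add]
    rw [e]
    exact (Nat.mul_le_mul hB1 h3).trans h4

/-- **the order of the centralizer** -/
theorem card_chain {l : List ((I → ℤ) × ℕ)} {C : List (I → ℤ)} (hC : ∀ c ∈ C, IsRoot cs h c)
    (hG : Good cs h X t w q C l) (hlr : ∀ x ∈ l, IsRoot cs h x.1) :
    q ^ (2 * s2 l) ≤ Nat.card (LC cs h X C t) := by
  obtain ⟨lam, hlam⟩ := exists_lam (cs := cs) (h := h) l C hlr
  have h1 := card_half R (Or.inl rfl) l C hC hG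
  have h2 := card_half R (Or.inr rfl) l C hC hG
  have h3 : Nat.card (RGD.Sup X (EE cs h 1 C l) ⊓ centralizer {t} : Subgroup Y) *
      Nat.card (RGD.Sup X (EE cs h (-1) C l) ⊓ centralizer {t} : Subgroup Y) ≤ Nat.card (LC cs h X C t) := by
    refine card_disj (inf_le_inf (RGD.Sup_mono (EE_sub _ _ _)) le_rfl) (inf_le_inf (RGD.Sup_mono (EE_sub _ _ _)) le_rfl)
      ?_
    intro x hx hx'
    refine Cfsg.Agent.Nodes.Slope.sup_inf_sup R lam (RGD.Sup_mono ?_ (mem_inf.1 hx).1)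
      (RGD.Sup_mono ?_ (mem_inf.1 hx').1)
    · intro b hb
      have h4 := hlam 1 (Or.inl rfl) b hb
      exact ⟨(EE_sub _ _ _ hb).1, by linarith⟩
    · intro b hb
      have h4 := hlam (-1) (Or.inr rfl) b hb
      exact ⟨(EE_sub _ _ _ hb).1, by linarith⟩
  calc q ^ (2 * s2 l) = q ^ s2 l * q ^ s2 l := by rw [two_mul, pow_add]
    _ ≤ _ := (Nat.mul_le_mul h1 h2).trans h3

include hs hab hcard hodd in
/-- **a subgroup of small fixity which contains `t` contains an element of `Zs`** -/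
theorem exists_mem (ht : TA cs h X t w) (hG1 : RGD.Sup X {c | IsRoot cs h c} = ⊤) {B : Subgroup Y}
    (hB : H255.IFK.Fix B) (htB : t ∈ B) (ho : orderOf t = 2) {l : List ((I → ℤ) × ℕ)}
    (hG : Good cs h X t w q [] l) (hlr : ∀ x ∈ l, IsRoot cs h x.1) {Zs : Set Y} (hZ2 : ∀ z ∈ Zs, z * z = 1)
    (hZc : ∀ g : Y, ∀ z ∈ Zs, g * z * g⁻¹ ∈ Zs)
    (hop : ∀ x ∈ l, ∀ u ∈ X x.1, ∀ v ∈ X (-x.1), u ≠ 1 → v ≠ 1 → ∃ z ∈ Zs, z ∈ Subgroup.closure {u, v})
    {N : ℕ} (hN : Nat.card Y ≤ q ^ N) (hNl : N ≤ 5 * sd l + 2 * s2 l) (hq : 0 < q) : ∃ z ∈ Zs, z ∈ B := by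
  by_contra hcon
  push Not at hcon
  have hL : LC cs h X [] t = centralizer {t} := by
    unfold LC
    have h1 : EC cs h [] = {c | IsRoot cs h c} := by
      ext c
      exact ⟨fun hc => hc.1, fun hc => ⟨hc, fun c hc => absurd hc (List.not_mem_nil)⟩⟩
    rw [h1, hG1, top_inf_eq]
  have h1 := phi_chain R hs hab hcard hodd ht hZ2 hZc l [] (fun c hc => absurd hc (List.not_mem_nil))
    (fun c hc => absurd hc (List.not_mem_nil)) hG hop
  have h2 := card_chain R (fun c hc => absurd hc (List.not_mem_nil)) hG hlr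
  rw [hL] at h1 h2
  obtain ⟨f, hf1, hf2⟩ := Fix_bound hB htB ho
  have h3 := h1 (B ⊓ centralizer {t}) inf_le_right (fun z hz hzB => hcon z hz (mem_inf.1 hzB).1)
  rw [Subgroup.inf_relIndex_right] at h3
  have h4 := h3.trans (hf1 _ le_rfl)
  have h5 := (centralizer ({t} : Set Y)).index_mul_card
  have h6 : (q ^ sd l) ^ 5 * q ^ (2 * s2 l) < q ^ N := by
    calc (q ^ sd l) ^ 5 * q ^ (2 * s2 l) ≤ f ^ 5 * Nat.card (centralizer ({t} : Set Y)) :=
          Nat.mul_le_mul (Nat.pow_le_pow_left h4 5) h2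
      _ < (centralizer ({t} : Set Y)).index * Nat.card (centralizer ({t} : Set Y)) :=
          Nat.mul_lt_mul_of_pos_right hf2 Nat.card_pos
      _ = Nat.card Y := h5
      _ ≤ _ := hN
  have h7 : q ^ N ≤ (q ^ sd l) ^ 5 * q ^ (2 * s2 l) := by
    rw [← pow_mul, ← pow_add]
    exact Nat.pow_le_pow_right hq (by omega)
  omega

end

end Cfsg.Agent.H331.IF
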