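import Cfsg.Agent.H331.IF.Chain
import Cfsg.Agent.H557.LrE7
import Cfsg.Agent.H897.IF.ENum

/-!
# S5719: `E₇(q)`, `q` odd: every involution of a subgroup of small fixity gives a fundamental involution (helper331)

* `step1` : `Fix B`, `t ∈ B` an involution, `z` the involution of the root `α₁`: `∃ t' ∈ B, IsConj z t'`.
-/

set_option autoImplicit false
set_option linter.unusedSectionVars false
set_option linter.unusedVariables false
set_option maxHeartbeats 1000000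

namespace Cfsg.Agent.H331.IF.E7

open CoxeterSystem Cfsg.Agent.ChevalleyStructure.CoxeterGeom Cfsg.Agent.Tits.Roots Cfsg.Agent.Tits.Core
  Cfsg.Agent.Tits.RootComb Cfsg.Agent.Nodes.Reps Cfsg.Agent.Nodes.BNOf
  Cfsg.Agent.Nodes.RGDLib Cfsg.Agent.Nodes.Bruhat Cfsg.Agent.Nodes.Coroot Cfsg.Agent.KFacts.RgdSL
open Cfsg.Lie Cfsg.Agent.ChevalleyStructure Cfsg.Agent.ChevalleyStructure.CoxeterGeomTypes
  Cfsg.Agent.Nodes.RGDChev
open Cfsg.Agent.KFacts.RgdChevCoord (TT XX nc)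
open Cfsg.Agent.H557.LrAbs Cfsg.Agent.H557.LrSgn Cfsg.Agent.H557.LrTor Cfsg.Agent.H557.LrOrb Cfsg.Agent.H557.LrIso
  Cfsg.Agent.H557.LrNF Cfsg.Agent.H557.LrMov Cfsg.Agent.H557.LrChev Cfsg.Agent.H557.LrRho Cfsg.Agent.H557.LrNon
  Cfsg.Agent.H557.LrData Cfsg.Agent.H557.LrFam
open Cfsg.Agent.H557.LrE7 (bb om ap am tab_bb tab_cn tab_cn0 tab_om th7_comm tab_w)
open Cfsg.Agent.GenExc (csv)
open Cfsg.Agent.GenExc.Chev (zS)
open Cfsg.Agent.H974.Exc (sym_E7 J_E7 fix_of_id wJ_E7 th7 pr7 sl_E7 cf isRoot_of cpr_of)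
open Cfsg.Agent.UGT.U2.FOne
open Cfsg.Agent.H190.IF (EC Inv2 psi psi_apply)
open Cfsg.Agent.H331.IF

/-- the Cartan matrix -/
abbrev AE : Fin 7 → Fin 7 → ℤ := cartanOf chevE7 7

/-- the lists -/
def rsN : Fin 4 → List (Fin 7 → ℤ)
  | 0 =>
  [![0, -1, -1, -2, -2, -1, -1], ![0, -1, -1, -2, -2, -1, 0], ![0, -1, -1, -1, -1, -1, -1],
    ![0, -1, -1, -1, -1, -1, 0], ![0, -1, -1, -1, -1, 0, 0], ![0, -1, -1, -1, 0, 0, 0], ![1, 0, 1, 1, 0, 0, 0],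
    ![1, 0, 1, 1, 1, 0, 0], ![1, 0, 1, 1, 1, 1, 0], ![1, 0, 1, 1, 1, 1, 1], ![1, 1, 1, 2, 1, 1, 0],
    ![1, 1, 1, 2, 1, 1, 1]]
  | 1 =>
  [![0, -1, 0, -1, -1, -1, -1], ![0, -1, 0, -1, -1, -1, 0], ![0, 0, 0, 0, -1, -1, -1],
    ![0, 0, 0, 0, -1, -1, 0], ![1, 1, 2, 2, 1, 1, 0], ![1, 1, 2, 2, 1, 1, 1], ![1, 1, 2, 3, 2, 1, 0],
    ![1, 1, 2, 3, 2, 1, 1]]
  | 2 =>
  [![0, -1, 0, -1, -1, 0, 0], ![0, -1, 0, -1, 0, 0, 0], ![1, 1, 2, 3, 2, 2, 1], ![1, 1, 2, 3, 3, 2, 1]]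
  | 3 =>
  []

/-- the lists -/
def rsE : Fin 2 → List (Fin 7 → ℤ)
  | 0 =>
  [![-1, -1, -2, -2, -1, 0, 0], ![-1, -1, -1, -2, -1, 0, 0], ![-1, -1, -1, -1, -1, 0, 0],
    ![-1, 0, -1, -1, -1, 0, 0], ![0, -1, -1, -2, -1, 0, 0], ![0, -1, -1, -1, -1, 0, 0],
    ![0, -1, 0, -1, -1, 0, 0], ![0, 0, -1, -1, -1, 0, 0], ![0, 0, 0, -1, -1, 0, 0], ![0, 0, 0, 0, -1, 0, 0],
    ![0, 0, 0, 0, 1, 1, 0], ![0, 0, 0, 1, 1, 1, 0], ![0, 0, 1, 1, 1, 1, 0], ![0, 1, 0, 1, 1, 1, 0],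
    ![0, 1, 1, 1, 1, 1, 0], ![0, 1, 1, 2, 1, 1, 0], ![1, 0, 1, 1, 1, 1, 0], ![1, 1, 1, 1, 1, 1, 0],
    ![1, 1, 1, 2, 1, 1, 0], ![1, 1, 2, 2, 1, 1, 0]]
  | 1 =>
  [![-1, -1, -2, -2, -2, -1, 0], ![-1, 0, -1, 0, 0, 0, 0], ![0, -1, 0, 0, 0, 0, 0], ![0, 0, -1, 0, 0, 0, 0],
    ![0, 0, 1, 1, 0, 0, 0], ![0, 1, 0, 1, 0, 0, 0], ![1, 0, 1, 1, 0, 0, 0], ![1, 1, 2, 3, 2, 1, 0]]

/-- the lists -/
def rsA : Fin 4 → List (Fin 7 → ℤ)
  | 0 =>
  [![-1, -2, -2, -3, -2, -1, 0], ![-1, 0, -1, -1, -1, -1, 0], ![0, 0, -1, -1, -1, -1, 0],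
    ![0, 0, 0, -1, -1, -1, 0], ![0, 0, 0, 0, -1, -1, 0], ![0, 0, 0, 0, 0, -1, 0], ![0, 0, 0, 0, 0, 1, 1],
    ![0, 0, 0, 0, 1, 1, 1], ![0, 0, 0, 1, 1, 1, 1], ![0, 0, 1, 1, 1, 1, 1], ![1, 0, 1, 1, 1, 1, 1],
    ![1, 2, 2, 3, 2, 1, 1]]
  | 1 =>
  [![-1, -2, -2, -3, -2, -2, -1], ![-1, 0, -1, -1, 0, 0, 0], ![0, 0, -1, -1, 0, 0, 0], ![0, 0, 0, -1, 0, 0, 0],
    ![0, 0, 0, 1, 1, 0, 0], ![0, 0, 1, 1, 1, 0, 0], ![1, 0, 1, 1, 1, 0, 0], ![1, 2, 2, 3, 3, 2, 1]]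
  | 2 =>
  [![-1, -2, -2, -4, -3, -2, -1], ![-1, 0, 0, 0, 0, 0, 0], ![1, 0, 1, 0, 0, 0, 0], ![1, 2, 3, 4, 3, 2, 1]]
  | 3 =>
  []

/-- the roots, type `E₆` -/
def xE : Fin 2 → (Fin 7 → ℤ) := ![![0, 0, 0, 0, 0, 1, 0], ![0, 0, 0, 1, 0, 0, 0]]

/-- the roots, type `A₇` -/
def xA : Fin 4 → (Fin 7 → ℤ) :=
  ![![0, 0, 0, 0, 0, 0, 1], ![0, 0, 0, 0, 1, 0, 0], ![0, 0, 1, 0, 0, 0, 0], ![2, 2, 3, 4, 3, 2, 1]]

/-- the words -/
def oE : Fin 2 → List (Fin 7) := ![[4, 5, 3, 4, 2, 3, 0, 2], [2, 3, 0, 2]]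

/-- the words -/
def oA : Fin 4 → List (Fin 7) :=
  ![[5, 6, 4, 5, 3, 4, 2, 3, 0, 2], [3, 4, 2, 3, 0, 2], [0, 2], [0, 2, 3, 4, 5, 6, 1, 3, 4, 5, 2, 3, 4, 1, 3, 2]]

/-- the previous roots -/
def prev2 (x : Fin 2 → (Fin 7 → ℤ)) : Fin 2 → List (Fin 7 → ℤ)
  | 0 => []
  | 1 => [x 0]

/-- the previous roots -/
def prev4 (x : Fin 4 → (Fin 7 → ℤ)) : Fin 4 → List (Fin 7 → ℤ)
  | 0 => []
  | 1 => [x 0]
  | 2 => [x 1, x 0]
  | 3 => [x 2, x 1, x 0]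

/-- the dimensions -/
def d4 : Fin 4 → ℕ := ![6, 4, 2, 0]

/-- the dimensions -/
def d2 : Fin 2 → ℕ := ![10, 4]

set_option backward.isDefEq.respectTransparency false

set_option maxRecDepth 20000

theorem tabN : ∀ j : Fin 4, (rsN j ++ (rsN j).map th7).Nodup ∧ (rsN j).length = 2 * d4 j ∧ ∀ β ∈ rsN j,
    (∃ k ∈ List.range chevE7.nroots, vec chevE7 7 k = β) ∧ cf AE β (bb j) = 1 ∧
      ∀ c ∈ prev4 bb j, cf AE β c = 0 := by
  decide +kernel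

theorem tabN' : ∀ j : Fin 4, ∀ c ∈ prev4 bb j, cf AE (bb j) c = 0 := by
  decide +kernel

theorem tabE : ∀ j : Fin 2, (rsE j).Nodup ∧ (rsE j).length = 2 * d2 j ∧ ∀ β ∈ rsE j,
    (∃ k ∈ List.range chevE7.nroots, vec chevE7 7 k = β) ∧ cf AE β (xE j) = 1 ∧ β 6 % 2 = 0 ∧
      ∀ c ∈ prev2 xE j, cf AE β c = 0 := by
  decide +kernel

theorem tabE' : ∀ j : Fin 2, actW AE (oE j) (sr 0) = xE j ∧ xE j 6 % 2 = 0 ∧
    ∀ c ∈ prev2 xE j, cf AE (xE j) c = 0 := by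
  decide +kernel

theorem tabA : ∀ j : Fin 4, (rsA j).Nodup ∧ (rsA j).length = 2 * d4 j ∧ ∀ β ∈ rsA j,
    (∃ k ∈ List.range chevE7.nroots, vec chevE7 7 k = β) ∧ cf AE β (xA j) = 1 ∧ β 1 % 2 = 0 ∧
      ∀ c ∈ prev4 xA j, cf AE β c = 0 := by
  decide +kernel

theorem tabA' : ∀ j : Fin 4, actW AE (oA j) (sr 0) = xA j ∧ xA j 1 % 2 = 0 ∧
    ∀ c ∈ prev4 xA j, cf AE (xA j) c = 0 := by
  decide +kernel

theorem tab1 : ∀ k : Fin 7, cf AE (sr k) (xA 3) % 2 = if k = 0 then 1 else 0 := by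
  decide +kernel

theorem bits_pow (k : Fin 7) (x : Fin 7 → ℤ) : bits 7 (2 ^ (k : ℕ)) x = (x k : ZMod 2) := by
  show (∑ j : Fin 7, if (2 ^ (k : ℕ)).testBit j then (x j : ZMod 2) else 0) = _
  rw [Finset.sum_eq_single k]
  · rw [if_pos (by rw [Nat.testBit_two_pow_self])]
  · intro j _ hj
    rw [if_neg]
    rw [Nat.testBit_two_pow, decide_eq_true_eq]
    exact fun h => hj (Fin.ext h.symm)
  · intro h; exact absurd (Finset.mem_univ _) h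

theorem bits_zero_of (k : Fin 7) {x : Fin 7 → ℤ} (h : x k % 2 = 0) : bits 7 (2 ^ (k : ℕ)) x = 0 := by
  rw [bits_pow, cast_zmod2, if_neg (by rw [h]; simp)]

section Gen

variable {I W Y : Type*} [Fintype I] [DecidableEq I] [Group W] [Group Y] {M : CoxeterMatrix I}
  {cs : CoxeterSystem M W} {A : I → I → ℤ} {h : IsCartan M A} {p : ℕ} {T : Subgroup Y} {n : I → Y}
  {X : (I → ℤ) → Subgroup Y}

theorem neg_SF [Finite W] {C : List (I → ℤ)} (hC : ∀ c ∈ C, IsRoot cs h c) {α : I → ℤ} (hα : IsRoot cs h α)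
    {β : I → ℤ} (hβ : β ∈ SF cs h C α) : -β ∈ SF cs h C (-α) := by
  obtain ⟨h1, h2⟩ := mem_SF.1 hβ
  rw [mem_SF]
  refine ⟨EC_neg hC h1, ?_⟩
  rw [cpr_neg_left _ hα.neg, cpr_neg_right cs h β hα, neg_neg, h2]

section

variable [Finite W] [Finite Y] (R : RGD cs h p T n X) (hs : SL cs h)
  (hab : ∀ α, IsRoot cs h α → ∀ u ∈ X α, ∀ v ∈ X α, u * v = v * u) {q : ℕ}
  (hcard : ∀ α, IsRoot cs h α → Nat.card (X α) = q) (hodd : Odd q) {t : Y} {w : W}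

include R hs hab hcard

/-- a level for a sign element -/
theorem lev_sgn {φ : (I → ℤ) →+ ZMod 2} (ht : SgnEl cs h T X φ t) {C : List (I → ℤ)} (hC : ∀ c ∈ C, IsRoot cs h c)
    {α : I → ℤ} (hα : α ∈ EC cs h C) (hφ : φ α = 0) {rs : List (I → ℤ)} {d : ℕ} (hlen : rs.length = 2 * d)
    (hnd : rs.Nodup) (hrs : ∀ β ∈ rs, β ∈ SF cs h C α ∧ φ β = 0) :
    Lev cs h X t (1 : W) C α ∧ (q ^ (2 * d + 1) ≤ Nat.card (BF cs h X C α t) ∧
      q ^ (2 * d + 1) ≤ Nat.card (BF cs h X C (-α) t)) := by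
  have hcn : ∀ β, IsRoot cs h β → φ β = 0 → Cn t X β := fun β hβ h0 u hu => ht.fix β hβ h0 u hu
  have hL : Lev cs h X t (1 : W) C α := ⟨hα, by rw [map_one, Module.End.one_apply], hcn α hα.1 hφ,
    hcn _ hα.1.neg (by rw [map_neg, hφ, neg_zero])⟩
  refine ⟨hL, ?_, ?_⟩
  · rw [← hlen]
    exact card_fixed R hs hab hcard hC hα hL.cn hnd fun β hβ =>
      ⟨(hrs β hβ).1, hcn β (mem_SF.1 (hrs β hβ).1).1.1 (hrs β hβ).2⟩
  · have h1 := card_fixed (t := t) R hs hab hcard hC (EC_neg hC hα) hL.cn' (rs := rs.map fun x => -x)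
      (hnd.map neg_injective) (fun β hβ => by
        obtain ⟨γ, hγ, rfl⟩ := List.mem_map.1 hβ
        have h2 := neg_SF hC hα.1 (hrs γ hγ).1
        exact ⟨h2, hcn _ (mem_SF.1 h2).1.1 (by rw [map_neg, (hrs γ hγ).2, neg_zero])⟩)
    rwa [List.length_map, hlen] at h1

include hodd

/-- a level for moved roots -/
theorem lev_mov (ht : TA cs h X t w) {C : List (I → ℤ)} (hC : ∀ c ∈ C, IsRoot cs h c)
    (hCw : ∀ c ∈ C, rep cs h w c = c) {α : I → ℤ} (hL : Lev cs h X t w C α) {rs : List (I → ℤ)} {d : ℕ}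
    (hlen : rs.length = 2 * d) (hnd : (rs ++ rs.map (rep cs h w)).Nodup) (hrs : ∀ β ∈ rs, β ∈ SF cs h C α) :
    (q ^ (2 * d + 1) ≤ Nat.card (BF cs h X C α t) ∧ q ^ (2 * d + 1) ≤ Nat.card (BF cs h X C (-α) t)) := by
  refine ⟨?_, ?_⟩
  · rw [← hlen]
    exact card_moved R hs hab hcard hodd ht hC hCw hL.mem hL.fix hL.cn hnd hrs
  · have h1 := card_moved R hs hab hcard hodd ht hC hCw (EC_neg hC hL.mem) (by rw [map_neg, hL.fix]) hL.cn'
      (rs := rs.map fun x => -x) (by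
        have h2 : (rs.map fun x => -x) ++ (rs.map fun x => -x).map (rep cs h w) =
            (rs ++ rs.map (rep cs h w)).map fun x => -x := by
          rw [List.map_append, List.map_map, List.map_map]
          congr 1
          apply List.map_congr_left
          intro β _
          exact map_neg _ _
        rw [h2]
        exact hnd.map neg_injective) (fun β hβ => by
        obtain ⟨γ, hγ, rfl⟩ := List.mem_map.1 hβ
        exact neg_SF hC hL.mem.1 (hrs γ hγ))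
    rwa [List.length_map, hlen] at h1

end

end Gen

section

variable {K : Type} [Field K] [Fintype K]

/-- the conclusion for `t` -/
def PP (z0 t : ↥(chevE7.group K)) : Prop :=
  ∀ B : Subgroup ↥(chevE7.group K), H255.IFK.Fix B → t ∈ B → ∃ z ∈ B, IsConj z0 z

theorem PP.conj {z0 t g : ↥(chevE7.group K)} (h : PP z0 (g * t * g⁻¹)) : PP z0 t := by
  intro B hB htB
  obtain ⟨z, hz, hc⟩ := h _ (hB.conj g) (H255.IFK.conj_mem_conj htB)
  exact ⟨g⁻¹ * z * g, H255.IFK.mem_conj.1 hz, hc.trans (isConj_iff.2 ⟨g⁻¹, by rw [inv_inv]⟩)⟩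

theorem card_le : Nat.card ↥(chevE7.group K) ≤ Fintype.card K ^ 133 := by
  have h1 := OrderFinal.order_formula (F := K) rfl chevE7 (Nat.gcd 2 (Fintype.card K - 1)) [2, 6, 8, 10, 12, 14, 18]
    (by simp) (by simp) (CardCombAll.comb_of_mem (by simp)) (by simp) rfl
  have h2 : 0 < Nat.gcd 2 (Fintype.card K - 1) := Nat.gcd_pos_of_pos_left _ (by norm_num)
  calc Nat.card ↥(chevE7.group K) ≤ Nat.gcd 2 (Fintype.card K - 1) * Nat.card ↥(chevE7.group K) :=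
        Nat.le_mul_of_pos_left _ h2
    _ = _ := h1
    _ ≤ Fintype.card K ^ 63 * Fintype.card K ^ [2, 6, 8, 10, 12, 14, 18].sum :=
        Nat.mul_le_mul_left _ (H897.IF.prod_le (Fintype.card K) [2, 6, 8, 10, 12, 14, 18])
    _ = _ := by rw [← pow_add]; rfl

variable (p : ℕ) [Fact p.Prime] [CharP K p] {W : Type*} [Group W] [Finite W]
  (cs : CoxeterSystem CoxeterMatrix.E₇ W)

include p in
theorem inv_word {z0 : ↥(chevE7.group K)} (hz0 : Inv2 cs isType_E7.isCartan (TT chevE7 K) (XX chevE7 7 K) (sr 0) z0)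
    {ω : List (Fin 7)} {α : Fin 7 → ℤ} (hα : actW AE ω (sr 0) = α) :
    ∃ z, Inv2 cs isType_E7.isCartan (TT chevE7 K) (XX chevE7 7 K) α z ∧ IsConj z0 z := by
  have R := rgd (K := K) isType_E7 cs p
  obtain ⟨k, hk⟩ := exists_rp cs R.nsys (cs.wordProd ω)
  have h1 := hz0.conj R hk
  rw [rep_word cs isType_E7.isCartan, hα] at h1
  exact ⟨_, h1, isConj_iff.2 ⟨k, rfl⟩⟩

theorem inv_sq (hZ : Subgroup.center ↥(chevE7.group K) = ⊥) {z0 : ↥(chevE7.group K)}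
    (hz0 : Inv2 cs isType_E7.isCartan (TT chevE7 K) (XX chevE7 7 K) (sr 0) z0) : z0 * z0 = 1 := by
  have hG1 := G1_eq_top (K := K) isType_E7 cs
  refine SgnEl.unique hG1 hZ (φ := psi hz0.root + psi hz0.root) (SgnEl.mul hz0.sgn hz0.sgn) ?_
  have e : psi hz0.root + psi hz0.root = 0 := by
    refine AddMonoidHom.ext fun x => ?_
    rw [AddMonoidHom.add_apply]
    exact add_self_zmod2 _
  rw [e]
  exact SgnEl.one

/-- **from a chain to the conclusion** -/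
theorem PP_of (hp2 : Odd p) (hZ : Subgroup.center ↥(chevE7.group K) = ⊥) {z0 : ↥(chevE7.group K)}
    (hz0 : Inv2 cs isType_E7.isCartan (TT chevE7 K) (XX chevE7 7 K) (sr 0) z0) {t : ↥(chevE7.group K)} {w : W}
    (ht : TA cs isType_E7.isCartan (XX chevE7 7 K) t w) (h1 : t ≠ 1) {l : List ((Fin 7 → ℤ) × ℕ)}
    (hG : Good cs isType_E7.isCartan (XX chevE7 7 K) t w (Fintype.card K) [] l)
    (hz : ∀ x ∈ l, ∃ z, Inv2 cs isType_E7.isCartan (TT chevE7 K) (XX chevE7 7 K) x.1 z ∧ IsConj z0 z)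
    (hN : 133 ≤ 5 * sd l + 2 * s2 l) : PP z0 t := by
  intro B hB htB
  have R := rgd (K := K) isType_E7 cs p
  have hs := sl_E7 cs
  have hG1 := G1_eq_top (K := K) isType_E7 cs
  have hodd := (odd_card (F := K) hp2).1
  have hcard : ∀ α, IsRoot cs isType_E7.isCartan α → Nat.card (XX chevE7 7 K α) = Fintype.card K := fun α hα => by
    rw [H897.IF.card_XX isType_E7 cs hα, Nat.card_eq_fintype_card]
  have ho : orderOf t = 2 := orderOf_eq_prime (by rw [pow_two]; exact ht.tt) h1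
  have hZ2 : ∀ z ∈ {z | IsConj z0 z}, z * z = 1 := by
    intro z hz
    obtain ⟨c, rfl⟩ := isConj_iff.1 hz
    have h2 := inv_sq cs hZ hz0
    calc c * z0 * c⁻¹ * (c * z0 * c⁻¹) = c * (z0 * z0) * c⁻¹ := by group
      _ = 1 := by rw [h2]; group
  have hZc : ∀ g : ↥(chevE7.group K), ∀ z ∈ {z | IsConj z0 z}, g * z * g⁻¹ ∈ {z | IsConj z0 z} := by
    intro g z hz
    exact IsConj.trans (show IsConj z0 z from hz) (isConj_iff.2 ⟨g, rfl⟩)
  obtain ⟨z, hz1, hz2⟩ := exists_mem R hs (fun α hα => H897.IF.XX_comm isType_E7 cs hα) hcard hodd ht hG1 hB htB ho hG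
    (fun x hx => (hz x hx).choose_spec.1.root) hZ2 hZc (fun x hx u hu v hv hu1 hv1 => by
      obtain ⟨z, h2, h3⟩ := hz x hx
      exact ⟨z, h3, h2.opp u hu v hv hu1 hv1⟩) card_le hN Fintype.card_pos
  exact ⟨z, hz2, hz1⟩

include p in
theorem ta_sgn {φ : (Fin 7 → ℤ) →+ ZMod 2} {t : ↥(chevE7.group K)}
    (ht : SgnEl cs isType_E7.isCartan (TT chevE7 K) (XX chevE7 7 K) φ t) (htt : t * t = 1) :
    TA cs isType_E7.isCartan (XX chevE7 7 K) t (1 : W) where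
  tt := htt
  cj c hc := by
    rw [map_one, Module.End.one_apply]
    exact (rgd (K := K) isType_E7 cs p).tor c hc t ht.mem

theorem sgn_sq (hZ : Subgroup.center ↥(chevE7.group K) = ⊥) {φ : (Fin 7 → ℤ) →+ ZMod 2} {t : ↥(chevE7.group K)}
    (ht : SgnEl cs isType_E7.isCartan (TT chevE7 K) (XX chevE7 7 K) φ t) : t * t = 1 := by
  have hG1 := G1_eq_top (K := K) isType_E7 cs
  refine SgnEl.unique hG1 hZ (φ := φ + φ) (SgnEl.mul ht ht) ?_
  have e : φ + φ = 0 := by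
    refine AddMonoidHom.ext fun x => ?_
    rw [AddMonoidHom.add_apply]
    exact add_self_zmod2 _
  rw [e]
  exact SgnEl.one

/-- membership in `EC` from a table -/
theorem mem_EC_of {C : List (Fin 7 → ℤ)} (hC : ∀ c ∈ C, IsRoot cs isType_E7.isCartan c) {β : Fin 7 → ℤ}
    (hβ : IsRoot cs isType_E7.isCartan β) (h : ∀ c ∈ C, cf AE β c = 0) : β ∈ EC cs isType_E7.isCartan C :=
  ⟨hβ, fun c hc => cpr_of isType_E7 (sl_E7 cs) β (hC c hc) (h c hc)⟩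

theorem mem_SF_of {C : List (Fin 7 → ℤ)} (hC : ∀ c ∈ C, IsRoot cs isType_E7.isCartan c) {α : Fin 7 → ℤ}
    (hα : IsRoot cs isType_E7.isCartan α) {β : Fin 7 → ℤ}
    (h : (∃ k ∈ List.range chevE7.nroots, vec chevE7 7 k = β) ∧ cf AE β α = 1 ∧ ∀ c ∈ C, cf AE β c = 0) :
    β ∈ SF cs isType_E7.isCartan C α := by
  have hβ := isRoot_of isType_E7 cs h.1
  exact mem_SF.2 ⟨mem_EC_of cs hC hβ h.2.2, cpr_of isType_E7 (sl_E7 cs) β hα h.2.1⟩

theorem isRoot_actW (ω : List (Fin 7)) {α : Fin 7 → ℤ} (hα : actW AE ω (sr 0) = α) :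
    IsRoot cs isType_E7.isCartan α := by
  rw [← hα, ← rep_word cs isType_E7.isCartan]
  exact (isRoot_sr cs isType_E7.isCartan 0).act _

/-- **type `E₆`** -/
theorem PP_E (hp2 : Odd p) (hZ : Subgroup.center ↥(chevE7.group K) = ⊥) {z0 : ↥(chevE7.group K)}
    (hz0 : Inv2 cs isType_E7.isCartan (TT chevE7 K) (XX chevE7 7 K) (sr 0) z0) {t : ↥(chevE7.group K)}
    (ht : SgnEl cs isType_E7.isCartan (TT chevE7 K) (XX chevE7 7 K) (bits 7 64) t) (h1 : t ≠ 1) : PP z0 t := by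
  have R := rgd (K := K) isType_E7 cs p
  have hs := sl_E7 cs
  have hcard : ∀ α, IsRoot cs isType_E7.isCartan α → Nat.card (XX chevE7 7 K α) = Fintype.card K := fun α hα => by
    rw [H897.IF.card_XX isType_E7 cs hα, Nat.card_eq_fintype_card]
  have hr : ∀ j, IsRoot cs isType_E7.isCartan (xE j) := fun j => isRoot_actW cs (oE j) (tabE' j).1
  have key : ∀ j, (∀ c ∈ prev2 xE j, IsRoot cs isType_E7.isCartan c) →
      Lev cs isType_E7.isCartan (XX chevE7 7 K) t (1 : W) (prev2 xE j) (xE j) ∧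
      (Fintype.card K ^ (2 * d2 j + 1) ≤ Nat.card (BF cs isType_E7.isCartan (XX chevE7 7 K) (prev2 xE j) (xE j) t) ∧
      Fintype.card K ^ (2 * d2 j + 1) ≤ Nat.card (BF cs isType_E7.isCartan (XX chevE7 7 K) (prev2 xE j) (-xE j) t)) := by
    intro j hC
    obtain ⟨h2, h3, h4⟩ := tabE j
    refine lev_sgn R hs (fun α hα => H897.IF.XX_comm isType_E7 cs hα) hcard ht hC
      (mem_EC_of cs hC (hr j) (tabE' j).2.2) (bits_zero_of 6 (tabE' j).2.1) h3 h2 fun β hβ => ?_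
    obtain ⟨h5, h6, h7, h8⟩ := h4 β hβ
    exact ⟨mem_SF_of cs hC (hr j) ⟨h5, h6, h8⟩, bits_zero_of 6 h7⟩
  obtain ⟨a0, a1⟩ := key 0 (fun c hc => absurd hc (List.not_mem_nil))
  obtain ⟨b0, b1⟩ := key 1 (fun c hc => by
    rcases List.mem_singleton.1 hc with rfl
    exact hr 0)
  refine PP_of p cs hp2 hZ hz0 (ta_sgn p cs ht (sgn_sq cs hZ ht)) h1 (l := [(xE 0, 10), (xE 1, 4)])
    ⟨a0, a1, b0, b1, trivial⟩ ?_ (by decide)
  intro x hx
  rcases List.mem_cons.1 hx with rfl | hx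
  · exact inv_word p cs hz0 (tabE' 0).1
  rcases List.mem_cons.1 hx with rfl | hx
  · exact inv_word p cs hz0 (tabE' 1).1
  exact absurd hx (List.not_mem_nil)

/-- **type `A₇`** -/
theorem PP_A (hp2 : Odd p) (hZ : Subgroup.center ↥(chevE7.group K) = ⊥) {z0 : ↥(chevE7.group K)}
    (hz0 : Inv2 cs isType_E7.isCartan (TT chevE7 K) (XX chevE7 7 K) (sr 0) z0) {t : ↥(chevE7.group K)}
    (ht : SgnEl cs isType_E7.isCartan (TT chevE7 K) (XX chevE7 7 K) (bits 7 2) t) (h1 : t ≠ 1) : PP z0 t := by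
  have R := rgd (K := K) isType_E7 cs p
  have hs := sl_E7 cs
  have hcard : ∀ α, IsRoot cs isType_E7.isCartan α → Nat.card (XX chevE7 7 K α) = Fintype.card K := fun α hα => by
    rw [H897.IF.card_XX isType_E7 cs hα, Nat.card_eq_fintype_card]
  have hr : ∀ j, IsRoot cs isType_E7.isCartan (xA j) := fun j => isRoot_actW cs (oA j) (tabA' j).1
  have key : ∀ j, (∀ c ∈ prev4 xA j, IsRoot cs isType_E7.isCartan c) →
      Lev cs isType_E7.isCartan (XX chevE7 7 K) t (1 : W) (prev4 xA j) (xA j) ∧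
      (Fintype.card K ^ (2 * d4 j + 1) ≤ Nat.card (BF cs isType_E7.isCartan (XX chevE7 7 K) (prev4 xA j) (xA j) t) ∧
      Fintype.card K ^ (2 * d4 j + 1) ≤ Nat.card (BF cs isType_E7.isCartan (XX chevE7 7 K) (prev4 xA j) (-xA j) t)) := by
    intro j hC
    obtain ⟨h2, h3, h4⟩ := tabA j
    refine lev_sgn R hs (fun α hα => H897.IF.XX_comm isType_E7 cs hα) hcard ht hC
      (mem_EC_of cs hC (hr j) (tabA' j).2.2) (bits_zero_of 1 (tabA' j).2.1) h3 h2 fun β hβ => ?_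
    obtain ⟨h5, h6, h7, h8⟩ := h4 β hβ
    exact ⟨mem_SF_of cs hC (hr j) ⟨h5, h6, h8⟩, bits_zero_of 1 h7⟩
  obtain ⟨a0, a1⟩ := key 0 (fun c hc => absurd hc (List.not_mem_nil))
  obtain ⟨b0, b1⟩ := key 1 (fun c hc => by
    rcases List.mem_singleton.1 hc with rfl
    exact hr 0)
  obtain ⟨c0, c1⟩ := key 2 (fun c hc => by
    rcases List.mem_cons.1 hc with rfl | hc
    · exact hr 1
    rcases List.mem_singleton.1 hc with rfl
    exact hr 0)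
  obtain ⟨e0, e1⟩ := key 3 (fun c hc => by
    rcases List.mem_cons.1 hc with rfl | hc
    · exact hr 2
    rcases List.mem_cons.1 hc with rfl | hc
    · exact hr 1
    rcases List.mem_singleton.1 hc with rfl
    exact hr 0)
  refine PP_of p cs hp2 hZ hz0 (ta_sgn p cs ht (sgn_sq cs hZ ht)) h1
    (l := [(xA 0, 6), (xA 1, 4), (xA 2, 2), (xA 3, 0)]) ⟨a0, a1, b0, b1, c0, c1, e0, e1, trivial⟩ ?_ (by decide)
  intro x hx
  rcases List.mem_cons.1 hx with rfl | hx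
  · exact inv_word p cs hz0 (tabA' 0).1
  rcases List.mem_cons.1 hx with rfl | hx
  · exact inv_word p cs hz0 (tabA' 1).1
  rcases List.mem_cons.1 hx with rfl | hx
  · exact inv_word p cs hz0 (tabA' 2).1
  rcases List.mem_cons.1 hx with rfl | hx
  · exact inv_word p cs hz0 (tabA' 3).1
  exact absurd hx (List.not_mem_nil)

include p in
/-- **the fundamental involutions** -/
theorem PP_1 (hZ : Subgroup.center ↥(chevE7.group K) = ⊥) {z0 : ↥(chevE7.group K)}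
    (hz0 : Inv2 cs isType_E7.isCartan (TT chevE7 K) (XX chevE7 7 K) (sr 0) z0) {t : ↥(chevE7.group K)}
    (ht : SgnEl cs isType_E7.isCartan (TT chevE7 K) (XX chevE7 7 K) (bits 7 1) t) : PP z0 t := by
  intro B hB htB
  obtain ⟨z, hz, hc⟩ := inv_word p cs hz0 (tabA' 3).1
  have hG1 := G1_eq_top (K := K) isType_E7 cs
  have e : psi hz.root = bits 7 1 := by
    refine ext_sr fun k => ?_
    rw [psi_apply, cpr_of isType_E7 (sl_E7 cs) (sr k) hz.root rfl, cast_zmod2]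
    have h1 := bits_pow 0 (sr k)
    have h2 : bits 7 1 (sr k) = bits 7 (2 ^ ((0 : Fin 7) : ℕ)) (sr k) := rfl
    rw [h2, h1, tab1 k]
    by_cases hk : k = 0
    · subst hk
      rw [sr_self]
      simp
    · rw [if_neg hk, sr_ne (fun h => hk h.symm)]
      simp
  have h1 := hz.sgn
  rw [e] at h1
  have h2 : t = z := SgnEl.unique hG1 hZ ht h1
  exact ⟨t, htB, by rw [h2]; exact hc⟩

end

end Cfsg.Agent.H331.IF.E7
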