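import Cfsg.Agent.H203.IF.Heis

/-!
# S5719: Heisenberg groups and fixed points of an involution (helper331)

* `Hz Z Q` : `Z ≤ Q` central, `[Q, Q] ≤ Z`, `h ↦ ⁅g, h⁆` maps `Q` onto `Z` for `g ∈ Q ∖ Z`;
* `Hz.of_heis`; `Hz.fix` : `Q ⊓ C(t)`, `t² = 1`, `t` centralises `Z` (of odd order) and normalises `Q`;
* `Hz.rel`, `Hz.rel_bot`, `Hz.half`;
* `Phi.step'` : the induction step;
* `card_fix` : lower bounds for the order of `Q ⊓ C`.
-/

set_option autoImplicit false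
set_option linter.unusedSectionVars false
set_option linter.unusedVariables false

namespace Cfsg.Agent.H331.IF

open Subgroup
open Cfsg.Agent.H203.IF
open scoped commutatorElement

/-- Heisenberg groups -/
structure Hz {T : Type*} [Group T] (Z Q : Subgroup T) : Prop where
  le : Z ≤ Q
  zQ : ∀ z ∈ Z, ∀ g ∈ Q, z * g = g * z
  com : ∀ g ∈ Q, ∀ h ∈ Q, ⁅g, h⁆ ∈ Z
  surj : ∀ g ∈ Q, g ∉ Z → ∀ z ∈ Z, ∃ h ∈ Q, ⁅g, h⁆ = z

variable {T : Type*} [Group T]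

theorem Hz.of_heis {ι : Type*} {Z : Subgroup T} {X : ι → Subgroup T} {S : Finset ι} {o : ι → ι} (H : Heis Z X S o) :
    Hz Z (QQ Z X S) where
  le := Heis.Z_le
  zQ z hz g hg := H.zQ hz hg
  com g hg h hh := H.com hg hh
  surj g hg hgZ z hz := H.surjQ hg hgZ hz

namespace Hz

variable {Z Q : Subgroup T} (H : Hz Z Q)

include H

theorem mul_left {a b g : T} (hb : ⁅b, g⁆ ∈ Z) (ha : a ∈ Q) : ⁅a * b, g⁆ = ⁅b, g⁆ * ⁅a, g⁆ := by
  have h2 : ⁅a * b, g⁆ = a * ⁅b, g⁆ * (g * a⁻¹ * g⁻¹) := by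
    simp only [commutatorElement_def]
    group
  rw [h2, ← H.zQ _ hb _ ha]
  simp only [commutatorElement_def]
  group

theorem mul_right {a b g : T} (hb : ⁅g, b⁆ ∈ Z) (ha : a ∈ Q) : ⁅g, a * b⁆ = ⁅g, a⁆ * ⁅g, b⁆ := by
  have h2 : ⁅g, a * b⁆ = ⁅g, a⁆ * (a * ⁅g, b⁆ * a⁻¹) := by
    simp only [commutatorElement_def]
    group
  rw [h2, ← H.zQ _ hb _ ha, mul_inv_cancel_right]

/-- **isotropic subgroups** -/
theorem iso [Finite T] (A : Subgroup T) (hA : ¬ Z ≤ A) :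
    Nat.card (A ⊓ Q : Subgroup T) ^ 2 * Nat.card Z ≤ Nat.card (A ⊓ Z : Subgroup T) ^ 2 * Nat.card Q := by
  classical
  obtain ⟨z₀, hz₀, hz₀A⟩ := SetLike.not_le_iff_exists.1 hA
  let i1 : CommGroup Z := { (inferInstance : Group Z) with
    mul_comm := fun a b => Subtype.ext (H.zQ a a.2 b (H.le b.2)) }
  obtain ⟨θ, hθ, hθA⟩ := exists_char (A.subgroupOf Z) (z := (⟨z₀, hz₀⟩ : Z)) (fun h => hz₀A h)
  let P : Q → Q → ℂˣ := fun g h => θ ⟨⁅(g : T), (h : T)⁆, H.com g g.2 h h.2⟩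
  have h1 := iso_abs (G := Q) (Z.subgroupOf Q) (A.subgroupOf Q) P ?_ ?_ ?_ ?_ ?_ ?_
  · have e1 : Nat.card (A.subgroupOf Q) = Nat.card (A ⊓ Q : Subgroup T) := by
      rw [← inf_subgroupOf_right, Nat.card_congr (subgroupOfEquivOfLe (inf_le_right : A ⊓ Q ≤ Q)).toEquiv]
    have e2 : Nat.card (Z.subgroupOf Q) = Nat.card Z :=
      Nat.card_congr (subgroupOfEquivOfLe H.le).toEquiv
    have e3 : Nat.card (A.subgroupOf Q ⊓ Z.subgroupOf Q : Subgroup Q) = Nat.card (A ⊓ Z : Subgroup T) := by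
      have h2 : A.subgroupOf Q ⊓ Z.subgroupOf Q = (A ⊓ Z).subgroupOf Q := rfl
      rw [h2]
      exact Nat.card_congr (subgroupOfEquivOfLe (inf_le_right.trans H.le : A ⊓ Z ≤ Q)).toEquiv
    rw [e1, e2, e3] at h1
    exact h1
  · intro g g' h
    show θ _ = θ _ * θ _
    rw [mul_comm, ← map_mul]
    congr 1
    apply Subtype.ext
    exact H.mul_left (H.com g' g'.2 h h.2) g.2
  · intro g h h'
    show θ _ = θ _ * θ _
    rw [← map_mul]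
    congr 1
    apply Subtype.ext
    exact H.mul_right (H.com g g.2 h' h'.2) h.2
  · intro b hb
    by_contra hbZ
    obtain ⟨h, hh, h2⟩ := H.surj b b.2 (fun h => hbZ h) _ (inv_mem hz₀)
    have h3 := hb ⟨h, hh⟩
    apply hθ
    have h4 : (⟨⁅h, (b : T)⁆, H.com h hh b b.2⟩ : Z) = ⟨z₀, hz₀⟩ := by
      apply Subtype.ext
      show ⁅h, (b : T)⁆ = z₀
      rw [← commutatorElement_inv, h2, inv_inv]
    rw [← h4]
    exact h3
  · intro z hz g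
    show θ _ = 1
    have h4 : (⟨⁅(g : T), (z : T)⁆, H.com g g.2 z z.2⟩ : Z) = 1 :=
      Subtype.ext (com_eq_one (H.zQ _ hz _ g.2).symm)
    rw [h4, map_one]
  · intro z hz g
    show θ _ = 1
    have h4 : (⟨⁅(z : T), (g : T)⁆, H.com z z.2 g g.2⟩ : Z) = 1 :=
      Subtype.ext (com_eq_one (H.zQ _ hz _ g.2))
    rw [h4, map_one]
  · intro b hb b' hb'
    show θ _ = 1
    apply hθA
    show ⁅(b : T), (b' : T)⁆ ∈ A
    have hb1 : (b : T) ∈ A := hb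
    have hb2 : (b' : T) ∈ A := hb'
    rw [commutatorElement_def]
    exact mul_mem (mul_mem (mul_mem hb1 hb2) (inv_mem hb1)) (inv_mem hb2)

/-- **the index of the intersection with the Heisenberg group** -/
theorem rel [Finite T] (A : Subgroup T) (hA : ¬ Z ≤ A) :
    Nat.card Q * Nat.card Z ≤ A.relIndex Q ^ 2 * Nat.card (A ⊓ Z : Subgroup T) ^ 2 := by
  have h1 := H.iso A hA
  have h2 : Nat.card (A ⊓ Q : Subgroup T) * A.relIndex Q = Nat.card Q := by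
    rw [← inf_relIndex_right]
    exact card_rel inf_le_right
  have hpos : 0 < Nat.card Q := Nat.card_pos
  refine Nat.le_of_mul_le_mul_left (c := Nat.card Q) ?_ hpos
  calc Nat.card Q * (Nat.card Q * Nat.card Z)
      = A.relIndex Q ^ 2 * (Nat.card (A ⊓ Q : Subgroup T) ^ 2 * Nat.card Z) := by
        rw [← h2]; ring
    _ ≤ A.relIndex Q ^ 2 * (Nat.card (A ⊓ Z : Subgroup T) ^ 2 * Nat.card Q) :=
        Nat.mul_le_mul_left _ h1
    _ = _ := by ring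

/-- `|Q| |Z| ≥ m²`, `A ∩ Z = 1`: the index is at least `m` -/
theorem rel_bot [Finite T] (A : Subgroup T) (hZ : Z ≠ ⊥) (hA : A ⊓ Z = ⊥) {m : ℕ}
    (hm : m ^ 2 ≤ Nat.card Q * Nat.card Z) : m ≤ A.relIndex Q := by
  have h1 := H.rel A (fun h => hZ (by rw [← hA, inf_eq_right.2 h]))
  rw [hA, card_bot, one_pow, mul_one] at h1
  exact (Nat.pow_le_pow_iff_left two_ne_zero).1 (hm.trans h1)

end Hz

theorem eq_one_of_sq {Z : Subgroup T} [Finite T] (hodd : Odd (Nat.card Z)) {c : T} (hc : c ∈ Z) (hcc : c * c = 1) :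
    c = 1 := by
  have h1 : orderOf c ∣ Nat.card Z := by
    have := orderOf_dvd_natCard (⟨c, hc⟩ : Z)
    rwa [Subgroup.orderOf_mk] at this
  have h2 : orderOf c ∣ 2 := orderOf_dvd_of_pow_eq_one (by rw [pow_two, hcc])
  have h3 : orderOf c ∣ 1 := by
    have h4 : Nat.Coprime (Nat.card Z) 2 := Nat.coprime_two_right.2 hodd
    have h5 := Nat.dvd_gcd h1 h2
    rwa [Nat.Coprime.gcd_eq_one h4] at h5
  exact orderOf_eq_one_iff.1 (Nat.dvd_one.1 h3)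

theorem exists_sqrt {Z : Subgroup T} [Finite T] (hodd : Odd (Nat.card Z)) {c : T} (hc : c ∈ Z) :
    ∃ d ∈ Z, d * d = c := by
  obtain ⟨m, hm⟩ := hodd
  refine ⟨c ^ (m + 1), pow_mem hc _, ?_⟩
  have h1 : c ^ Nat.card Z = 1 := by
    have h2 : (⟨c, hc⟩ : Z) ^ Nat.card Z = 1 := pow_card_eq_one'
    exact congrArg Subtype.val h2
  calc c ^ (m + 1) * c ^ (m + 1) = c ^ Nat.card Z * c := by
        rw [hm, ← pow_add, ← pow_succ]
        congr 1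
        omega
    _ = c := by rw [h1, one_mul]

/-- `g (t g t⁻¹)` is centralised by `t` -/
theorem Hz.diag {Z Q : Subgroup T} [Finite T] (H : Hz Z Q) (hodd : Odd (Nat.card Z)) {t : T} (htt : t * t = 1)
    (htZ : ∀ z ∈ Z, t * z = z * t) (htQ : ∀ g ∈ Q, t * g * t⁻¹ ∈ Q) {g : T} (hg : g ∈ Q) :
    g * (t * g * t⁻¹) ∈ Q ⊓ centralizer {t} := by
  have hti : t⁻¹ = t := inv_eq_of_mul_eq_one_right htt
  refine mem_inf.2 ⟨mul_mem hg (htQ g hg), ?_⟩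
  have h1 := H.com _ (inv_mem (htQ g hg)) _ (inv_mem hg)
  -- `g' g = g g' c`
  obtain ⟨c, hc⟩ : ∃ c, c = ⁅(t * g * t⁻¹)⁻¹, g⁻¹⁆ := ⟨_, rfl⟩
  rw [← hc] at h1
  have e1 : (t * g * t⁻¹) * g = g * (t * g * t⁻¹) * c := by
    rw [hc, commutatorElement_def]
    group
  have e2 : t * (g * (t * g * t⁻¹)) * t⁻¹ = g * (t * g * t⁻¹) * c := by
    rw [← e1]
    calc t * (g * (t * g * t⁻¹)) * t⁻¹ = (t * g * t⁻¹) * ((t * t) * g * (t * t)⁻¹) := by group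
      _ = t * g * t⁻¹ * g := by rw [htt]; group
  have e3 : g * (t * g * t⁻¹) = g * (t * g * t⁻¹) * (c * c) := by
    calc g * (t * g * t⁻¹) = t * (t * (g * (t * g * t⁻¹)) * t⁻¹) * t⁻¹ := by
          have : t * (t * (g * (t * g * t⁻¹)) * t⁻¹) * t⁻¹ = (t * t) * (g * (t * g * t⁻¹)) * (t * t)⁻¹ := by group
          rw [this, htt]; group
      _ = t * (g * (t * g * t⁻¹) * c) * t⁻¹ := by rw [e2]
      _ = (t * (g * (t * g * t⁻¹)) * t⁻¹) * (t * c * t⁻¹) := by group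
      _ = g * (t * g * t⁻¹) * c * c := by rw [e2, htZ c h1, mul_inv_cancel_right]
      _ = _ := by rw [mul_assoc _ c c]
  have e4 : c * c = 1 := by
    have := e3.symm
    rwa [mul_eq_left] at this
  have e5 := eq_one_of_sq hodd h1 e4
  rw [e5, mul_one] at e2
  rw [mem_centralizer_singleton_iff]
  exact (mul_inv_eq_iff_eq_mul.1 e2).symm

/-- **The fixed points of an involution.** -/
theorem Hz.fix {Z Q : Subgroup T} [Finite T] (H : Hz Z Q) (hodd : Odd (Nat.card Z)) {t : T} (htt : t * t = 1)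
    (htZ : ∀ z ∈ Z, t * z = z * t) (htQ : ∀ g ∈ Q, t * g * t⁻¹ ∈ Q) : Hz Z (Q ⊓ centralizer {t}) where
  le := le_inf H.le fun z hz => mem_centralizer_singleton_iff.2 (htZ z hz).symm
  zQ z hz g hg := H.zQ z hz g (mem_inf.1 hg).1
  com g hg h hh := H.com g (mem_inf.1 hg).1 h (mem_inf.1 hh).1
  surj g hg hgZ z hz := by
    obtain ⟨d, hd, hdd⟩ := exists_sqrt hodd hz
    obtain ⟨h, hh, hgh⟩ := H.surj g (mem_inf.1 hg).1 hgZ d hd
    refine ⟨h * (t * h * t⁻¹), H.diag hodd htt htZ htQ hh, ?_⟩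
    have hgt : t * g * t⁻¹ = g := by
      have := mem_centralizer_singleton_iff.1 (mem_inf.1 hg).2
      rw [mul_inv_eq_iff_eq_mul]
      exact this.symm
    have e1 : ⁅g, t * h * t⁻¹⁆ = d := by
      have h1 : t * ⁅g, h⁆ * t⁻¹ = ⁅t * g * t⁻¹, t * h * t⁻¹⁆ := by
        simp only [commutatorElement_def]
        group
      rw [hgt] at h1
      rw [← h1, hgh, htZ d hd, mul_inv_cancel_right]
    rw [H.mul_right (by rw [e1]; exact hd) hh, hgh, e1, hdd]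

/-- **The induction step.** -/
theorem phi_step' [Finite T] {L L' : Subgroup T} {Zs : Set T} {c : ℕ} {Z₁ Z₂ B₁ B₂ : Subgroup T} (H₁ : Hz Z₁ B₁)
    (H₂ : Hz Z₂ B₂) {m : ℕ} (h : Phi L' Zs c) (hL' : L' ≤ L) (hB₁ : B₁ ≤ L) (hB₂ : B₂ ≤ L)
    (ho₁ : Odd (Nat.card B₁)) (ho₂ : Odd (Nat.card B₂))
    (hn₁ : ∀ l ∈ L', ∀ u ∈ B₁, l * u * l⁻¹ ∈ B₁) (hn₂ : ∀ l ∈ L', ∀ u ∈ B₂, l * u * l⁻¹ ∈ B₂)
    (hm₁ : m ^ 2 ≤ Nat.card B₁ * Nat.card Z₁) (hm₂ : m ^ 2 ≤ Nat.card B₂ * Nat.card Z₂)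
    (hZ₁ : Z₁ ≠ ⊥) (hZ₂ : Z₂ ≠ ⊥) (hZ2 : ∀ z ∈ Zs, z * z = 1) (hZc : ∀ g ∈ L, ∀ z ∈ Zs, g * z * g⁻¹ ∈ Zs)
    (hop : ∀ u ∈ Z₁, ∀ v ∈ Z₂, u ≠ 1 → v ≠ 1 → ∃ z ∈ Zs, z ∈ closure {u, v}) : Phi L Zs (m * c) := by
  intro Y hYL hY
  by_cases h1 : Y ⊓ Z₁ = ⊥
  · exact h.half hL' hB₁ ho₁ hn₁ hZ2 hZc hY (H₁.rel_bot Y hZ₁ h1 hm₁)
  by_cases h2 : Y ⊓ Z₂ = ⊥
  · exact h.half hL' hB₂ ho₂ hn₂ hZ2 hZc hY (H₂.rel_bot Y hZ₂ h2 hm₂)
  exfalso
  obtain ⟨⟨u, hu⟩, hu1⟩ := Subgroup.ne_bot_iff_exists_ne_one.1 h1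
  obtain ⟨⟨v, hv⟩, hv1⟩ := Subgroup.ne_bot_iff_exists_ne_one.1 h2
  obtain ⟨z, hz, hzc⟩ := hop u (mem_inf.1 hu).2 v (mem_inf.1 hv).2 (fun h => hu1 (Subtype.ext h))
    (fun h => hv1 (Subtype.ext h))
  refine hY z hz ((closure_le Y).2 ?_ hzc)
  rintro x (rfl | rfl)
  · exact (mem_inf.1 hu).1
  · exact (mem_inf.1 hv).1

/-! ### orders -/

section Card

variable {ι : Type*} {Z : Subgroup T} {X : ι → Subgroup T} {S : Finset ι} {o : ι → ι}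

/-- uniqueness of the components -/
theorem pr_inj (H : Heis Z X S o) (hZ : Z ≠ ⊥) {a b : ι → T} (ha : ∀ i ∈ S, a i ∈ X i) (hb : ∀ i ∈ S, b i ∈ X i)
    {l : List ι} (hl : ∀ i ∈ l, i ∈ S) (hnd : l.Nodup) {z w : T} (hz : z ∈ Z) (hw : w ∈ Z)
    (h1 : z * Heis.pr a l = w * Heis.pr b l) : ∀ j ∈ l, a j = b j := by
  intro j hjl
  have hj := hl j hjl
  obtain ⟨⟨z₀, hz₀⟩, hz₁⟩ := Subgroup.ne_bot_iff_exists_ne_one.1 hZ
  have hz₁' : z₀ ≠ 1 := fun h => hz₁ (Subtype.ext h)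
  have key : ∀ z ∈ Z, ∀ a : ι → T, (∀ i ∈ S, a i ∈ X i) → ∀ h ∈ X (o j), ⁅z * Heis.pr a l, h⁆ = ⁅a j, h⁆ := by
    intro z hz a ha h hh
    have h3 := H.com_pr ha hj hh l hl hnd hjl
    rw [H.mul_left (by rw [h3]; exact H.pair j hj _ (ha j hj) _ hh) (Heis.Z_le hz), h3,
      com_eq_one (H.zQ hz (Heis.X_le (H.mem j hj) hh)), mul_one]
  have h5 : ∀ h ∈ X (o j), ⁅a j, h⁆ = ⁅b j, h⁆ := by
    intro h hh
    rw [← key z hz a ha h hh, ← key w hw b hb h hh, h1]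
  by_contra hne
  have h6 : (b j)⁻¹ * a j ≠ 1 := by
    intro h7
    exact hne (inv_mul_eq_one.1 h7).symm
  obtain ⟨h, hh, h8⟩ := H.surj j hj _ (mul_mem (inv_mem (hb j hj)) (ha j hj)) h6 z₀ hz₀
  have h9 := H.pair j hj _ (ha j hj) h hh
  rw [H.mul_left h9 (Heis.X_le hj (inv_mem (hb j hj))), h5 h hh] at h8
  have h10 : ⁅b j, h⁆ * ⁅(b j)⁻¹, h⁆ = 1 := by
    rw [← H.mul_left (a := (b j)⁻¹) (H.pair j hj _ (hb j hj) _ hh) (Heis.X_le hj (inv_mem (hb j hj))),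
      inv_mul_cancel, commutatorElement_one_left]
  rw [h10] at h8
  exact hz₁' h8.symm

/-- **lower bound for the order of a subgroup of the Heisenberg group** -/
theorem card_fix [Finite T] (H : Heis Z X S o) (hZ : Z ≠ ⊥) {C : Subgroup T} (hZC : Z ≤ C) {rs l : List ι}
    (hrs : rs.Nodup) (hl : ∀ i ∈ l, i ∈ S) (hnd : l.Nodup) (hsub : ∀ i ∈ rs, i ∈ l)
    (E : ((i : {i // i ∈ rs}) → X i) → ι → T) (hE : ∀ u, ∀ i ∈ S, E u i ∈ X i) (hEr : ∀ u (i : {i // i ∈ rs}), E u i = (u i : T))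
    (hEC : ∀ u, Heis.pr (E u) l ∈ C) {q : ℕ} (hqZ : Nat.card Z = q) (hq : ∀ i ∈ rs, Nat.card (X i) = q) :
    q ^ (rs.length + 1) ≤ Nat.card (QQ Z X S ⊓ C : Subgroup T) := by
  classical
  let f : Z × ((i : {i // i ∈ rs}) → X i) → (QQ Z X S ⊓ C : Subgroup T) := fun p =>
    ⟨p.1 * Heis.pr (E p.2) l, mem_inf.2 ⟨mul_mem (Heis.Z_le p.1.2) (Heis.pr_mem hl (hE p.2)),
      mul_mem (hZC p.1.2) (hEC p.2)⟩⟩
  have hf : Function.Injective f := by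
    rintro ⟨z, a⟩ ⟨w, b⟩ hab
    have h1 : (z : T) * Heis.pr (E a) l = w * Heis.pr (E b) l := congrArg Subtype.val hab
    have h2 : a = b := by
      funext i
      apply Subtype.ext
      rw [← hEr a i, ← hEr b i]
      exact pr_inj H hZ (hE a) (hE b) hl hnd z.2 w.2 h1 i.1 (hsub i.1 i.2)
    subst h2
    have h4 : z = w := Subtype.ext (mul_right_cancel h1)
    rw [h4]
  have h1 := Nat.card_le_card_of_injective f hf
  have : Fintype {i // i ∈ rs} := Fintype.ofFinite _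
  have h2 : ∏ i : {i // i ∈ rs}, Nat.card (X i) = q ^ rs.length := by
    rw [Finset.prod_congr rfl (fun (i : {i // i ∈ rs}) _ => hq i.1 i.2), Finset.prod_const, Finset.card_univ,
      Fintype.card_of_subtype rs.toFinset (fun x => List.mem_toFinset), List.toFinset_card_of_nodup hrs]
  rw [Nat.card_prod, Nat.card_pi, hqZ, h2, mul_comm, ← pow_succ] at h1
  exact h1

end Card

/-- `|A| |B| ≤ |C|` -/
theorem card_disj [Finite T] {A B C : Subgroup T} (hA : A ≤ C) (hB : B ≤ C) (hd : ∀ x ∈ A, x ∈ B → x = 1) :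
    Nat.card A * Nat.card B ≤ Nat.card C := by
  rw [← Nat.card_prod]
  refine Nat.card_le_card_of_injective (fun x : A × B => (⟨x.1 * x.2, mul_mem (hA x.1.2) (hB x.2.2)⟩ : C)) ?_
  rintro ⟨⟨a, ha⟩, ⟨b, hb⟩⟩ ⟨⟨a', ha'⟩, ⟨b', hb'⟩⟩ e
  have e1 : a * b = a' * b' := congrArg Subtype.val e
  have e2 : a'⁻¹ * a = b' * b⁻¹ := by
    rw [inv_mul_eq_iff_eq_mul, ← mul_assoc, ← e1, mul_inv_cancel_right]
  have e3 := hd (a'⁻¹ * a) (mul_mem (inv_mem ha') ha) (by rw [e2]; exact mul_mem hb' (inv_mem hb))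
  have e4 : a = a' := (inv_mul_eq_one.1 e3).symm
  subst e4
  have e5 : b = b' := mul_left_cancel e1
  subst e5
  rfl

end Cfsg.Agent.H331.IF
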