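import Cfsg.Agent.H331.IF.Hz
import Cfsg.Agent.H190.IF.Core
import Cfsg.Agent.H557.LrMov
import Cfsg.Agent.Nodes.Slope

/-!
# S5719: subgroups of the centralizer of an involution of a simply laced root group datum (helper331)

`t` an involution with `t X_c t⁻¹ = X_{w c}` (not necessarily in the torus).

* `LC C t` : `⟨X b : b ⟂ C⟩ ⊓ C(t)`; `SF C α`, `QF C α`, `BF C α t` : the Heisenberg group of `α` in `C^⟂`, its fixed points;
* `card_fixed`, `card_moved` : lower bounds for `|BF C α t|`;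
* `Lev`, `Good` : chains; `phi_chain`, `card_chain`;
* `exists_mem` : a subgroup of small fixity which contains `t` contains an element of `Zs`.
-/

set_option autoImplicit false
set_option linter.unusedSectionVars false
set_option linter.unusedVariables false

namespace Cfsg.Agent.H331.IF

open CoxeterSystem Cfsg.Agent.ChevalleyStructure.CoxeterGeom Cfsg.Agent.Tits.Roots Cfsg.Agent.Tits.Core
  Cfsg.Agent.Tits.Exchange Cfsg.Agent.Nodes.Reps Cfsg.Agent.Nodes.BNOf Cfsg.Agent.Nodes.StabComb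
  Cfsg.Agent.Nodes.Bruhat Cfsg.Agent.Nodes.OppDec Cfsg.Agent.Nodes.PosPair Cfsg.Agent.Nodes.Coroot
  Cfsg.Agent.Nodes.Unique Cfsg.Agent.KFacts.RgdSL Cfsg.Agent.H557.LrSgn
open Cfsg.Agent.H203.IF Cfsg.Agent.H190.IF
open Cfsg.Agent.H557.LrMov (Cn conj_mem_X inv_eq)
open Subgroup (centralizer mem_inf mem_centralizer_singleton_iff)
open scoped commutatorElement

variable {I W Y : Type*} [Fintype I] [DecidableEq I] [Group W] [Group Y] {M : CoxeterMatrix I}
  {cs : CoxeterSystem M W} {A : I → I → ℤ} {h : IsCartan M A} {p : ℕ} {T : Subgroup Y} {n : I → Y}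
  {X : (I → ℤ) → Subgroup Y}

section Defs

variable (cs h X)

/-- the roots of `C^⟂` at angle 60° from `α` -/
noncomputable def SF [Finite W] (C : List (I → ℤ)) (α : I → ℤ) : Finset (I → ℤ) := by
  classical
  exact (RGD.finite_roots (cs := cs) (h := h)).toFinset.filter fun β => β ∈ EC cs h C ∧ cpr cs h β α = 1

/-- the Heisenberg group -/
noncomputable def QF [Finite W] (C : List (I → ℤ)) (α : I → ℤ) : Subgroup Y := QQ (X α) X (SF cs h C α)

/-- its fixed points -/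
noncomputable def BF [Finite W] (C : List (I → ℤ)) (α : I → ℤ) (t : Y) : Subgroup Y := QF cs h X C α ⊓ centralizer {t}

/-- the centralizer of `t` in `⟨X b : b ⟂ C⟩` -/
def LC (C : List (I → ℤ)) (t : Y) : Subgroup Y := RGD.Sup X (EC cs h C) ⊓ centralizer {t}

end Defs

theorem mem_SF [Finite W] {C : List (I → ℤ)} {α β : I → ℤ} : β ∈ SF cs h C α ↔ β ∈ EC cs h C ∧ cpr cs h β α = 1 := by
  classical
  unfold SF
  rw [Finset.mem_filter, Set.Finite.mem_toFinset]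
  exact ⟨fun h => h.2, fun h => ⟨h.1.1, h⟩⟩

theorem EC_neg {C : List (I → ℤ)} [Finite W] (hC : ∀ c ∈ C, IsRoot cs h c) {α : I → ℤ} (hα : α ∈ EC cs h C) :
    -α ∈ EC cs h C := ⟨hα.1.neg, fun c hc => by rw [cpr_neg_left _ (hC c hc), hα.2 c hc, neg_zero]⟩

section

variable [Finite W] [Finite Y] (R : RGD cs h p T n X) (hs : SL cs h)
  (hab : ∀ α, IsRoot cs h α → ∀ u ∈ X α, ∀ v ∈ X α, u * v = v * u) {q : ℕ}
  (hcard : ∀ α, IsRoot cs h α → Nat.card (X α) = q) (hq : 3 ≤ q) (hodd : Odd q)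

include R hs hab

theorem heisF {C : List (I → ℤ)} (hC : ∀ c ∈ C, IsRoot cs h c) {α : I → ℤ} (hα : α ∈ EC cs h C) :
    Heis (X α) X (SF cs h C α) (fun β => α - β) := by
  refine heis_root R hs hab hα.1 _ (fun β hβ => ⟨(mem_SF.1 hβ).1.1, (mem_SF.1 hβ).2⟩) (fun β hβ => ?_)
  obtain ⟨⟨h1, h2⟩, h3⟩ := mem_SF.1 hβ
  rw [mem_SF]
  have e : α - β = α + (-1 : ℤ) • β := by rw [neg_one_smul, sub_eq_add_neg]
  refine ⟨⟨isRoot_sub hα.1 h1 (by rw [hs α β hα.1 h1, h3]), fun c hc => ?_⟩, ?_⟩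
  · rw [e, cpr_add cs h _ _ (hC c hc), cpr_smul cs h _ _ (hC c hc), hα.2 c hc, h2 c hc]
    norm_num
  · rw [e, cpr_add cs h _ _ hα.1, cpr_smul cs h _ _ hα.1, cpr_self cs h hα.1, h3]
    norm_num

include hcard in
theorem odd_QF (hodd : Odd q) {C : List (I → ℤ)} (hC : ∀ c ∈ C, IsRoot cs h c) {α : I → ℤ} (hα : α ∈ EC cs h C) :
    Odd (Nat.card (QF cs h X C α)) := by
  unfold QF
  rw [card_QQ' (heisF R hs hab hC hα) (X_ne_bot R hα.1) (hcard α hα.1) (fun β hβ => hcard β (mem_SF.1 hβ).1.1)]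
  exact hodd.pow

omit [Finite Y] in
/-- normalisation -/
theorem norm_QF {C : List (I → ℤ)} (hC : ∀ c ∈ C, IsRoot cs h c) {α α' : I → ℤ} (hα : α ∈ EC cs h C)
    (hα' : α' ∈ EC cs h C) (hperp : ∀ x, IsRoot cs h x → cpr cs h x α = 0 → cpr cs h x α' = 0) {l u : Y}
    (hl : l ∈ RGD.Sup X (EC cs h (α :: C))) (hu : u ∈ QF cs h X C α') : l * u * l⁻¹ ∈ QF cs h X C α' := by
  refine norm_QQ R hs hab hα'.1 _ (fun β hβ => ⟨(mem_SF.1 hβ).1.1, (mem_SF.1 hβ).2⟩) ?_ ?_ hl hu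
  · intro γ hγ
    exact ⟨hγ.1, hperp γ hγ.1 (hγ.2 α List.mem_cons_self)⟩
  · intro γ hγ β hβ hγβ
    obtain ⟨⟨h1, h2⟩, h3⟩ := mem_SF.1 hβ
    rw [mem_SF]
    refine ⟨⟨hγβ, fun c hc => ?_⟩, ?_⟩
    · rw [cpr_add cs h _ _ (hC c hc), hγ.2 c (List.mem_cons_of_mem _ hc), h2 c hc, add_zero]
    · rw [cpr_add cs h _ _ hα'.1, hperp γ hγ.1 (hγ.2 α List.mem_cons_self), h3, zero_add]

omit [Finite Y] hs hab R in
theorem QF_le {C : List (I → ℤ)} {α : I → ℤ} (hα : α ∈ EC cs h C) : QF cs h X C α ≤ RGD.Sup X (EC cs h C) :=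
  Heis.QQ_le (RGD.le_Sup hα) fun β hβ => RGD.le_Sup (mem_SF.1 hβ).1

end

/-! ### the involution -/

/-- the involution `t` acts by `w` -/
structure TA (cs : CoxeterSystem M W) (h : IsCartan M A) (X : (I → ℤ) → Subgroup Y) (t : Y) (w : W) : Prop where
  tt : t * t = 1
  cj : ∀ c, IsRoot cs h c → cj t (X c) = X (rep cs h w c)

/-- one level of a chain -/
structure Lev (cs : CoxeterSystem M W) (h : IsCartan M A) (X : (I → ℤ) → Subgroup Y) (t : Y) (w : W)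
    (C : List (I → ℤ)) (α : I → ℤ) : Prop where
  mem : α ∈ EC cs h C
  fix : rep cs h w α = α
  cn : Cn t X α
  cn' : Cn t X (-α)

section

variable [Finite W] [Finite Y] (R : RGD cs h p T n X) (hs : SL cs h)
  (hab : ∀ α, IsRoot cs h α → ∀ u ∈ X α, ∀ v ∈ X α, u * v = v * u) {q : ℕ}
  (hcard : ∀ α, IsRoot cs h α → Nat.card (X α) = q) (hq : 3 ≤ q) (hodd : Odd q) {t : Y} {w : W} (ht : TA cs h X t w)

include ht

omit [Finite Y] in
theorem SF_act {C : List (I → ℤ)} (hC : ∀ c ∈ C, IsRoot cs h c) (hCw : ∀ c ∈ C, rep cs h w c = c) {α : I → ℤ}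
    (hα : IsRoot cs h α) (hαw : rep cs h w α = α) {β : I → ℤ} (hβ : β ∈ SF cs h C α) :
    rep cs h w β ∈ SF cs h C α := by
  obtain ⟨⟨h1, h2⟩, h3⟩ := mem_SF.1 hβ
  rw [mem_SF]
  refine ⟨⟨h1.act w, fun c hc => ?_⟩, ?_⟩
  · have h4 := cpr_rep cs h w β (hC c hc)
    rw [hCw c hc] at h4
    rw [h4, h2 c hc]
  · have h4 := cpr_rep cs h w β hα
    rw [hαw] at h4
    rw [h4, h3]

omit [Finite Y] in
theorem conj_QF {C : List (I → ℤ)} (hC : ∀ c ∈ C, IsRoot cs h c) (hCw : ∀ c ∈ C, rep cs h w c = c) {α : I → ℤ}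
    (hα : IsRoot cs h α) (hαw : rep cs h w α = α) {g : Y} (hg : g ∈ QF cs h X C α) : t * g * t⁻¹ ∈ QF cs h X C α := by
  have h1 : QF cs h X C α ≤ (QF cs h X C α).comap (MulAut.conj t).toMonoidHom := by
    refine Heis.QQ_le (fun u hu => ?_) (fun β hβ u hu => ?_)
    · have h2 := conj_mem_X ht.cj hα hu
      rw [hαw] at h2
      exact Heis.Z_le h2
    · have h2 := conj_mem_X ht.cj (mem_SF.1 hβ).1.1 hu
      exact Heis.X_le (SF_act ht hC hCw hα hαw hβ) h2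
  exact h1 hg

include R hs hab hcard hodd

theorem hzB {C : List (I → ℤ)} (hC : ∀ c ∈ C, IsRoot cs h c) (hCw : ∀ c ∈ C, rep cs h w c = c) {α : I → ℤ}
    (hα : α ∈ EC cs h C) (hαw : rep cs h w α = α) (hcn : Cn t X α) : Hz (X α) (BF cs h X C α t) := by
  refine (Hz.of_heis (heisF R hs hab hC hα)).fix (by rw [hcard α hα.1]; exact hodd) ht.tt hcn ?_
  intro g hg
  exact conj_QF ht hC hCw hα.1 hαw hg

omit ht in
theorem odd_BF {C : List (I → ℤ)} (hC : ∀ c ∈ C, IsRoot cs h c) {α : I → ℤ} (hα : α ∈ EC cs h C) :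
    Odd (Nat.card (BF cs h X C α t)) :=
  Odd.of_dvd_nat (odd_QF R hs hab hcard hodd hC hα) (Subgroup.card_dvd_of_le inf_le_left)

/-- **the induction step** -/
theorem lc_step {C : List (I → ℤ)} (hC : ∀ c ∈ C, IsRoot cs h c) (hCw : ∀ c ∈ C, rep cs h w c = c) {α : I → ℤ}
    (L : Lev cs h X t w C α) {m c : ℕ} (hm₁ : m ^ 2 ≤ Nat.card (BF cs h X C α t) * q)
    (hm₂ : m ^ 2 ≤ Nat.card (BF cs h X C (-α) t) * q) {Zs : Set Y} (hZ2 : ∀ z ∈ Zs, z * z = 1)
    (hZc : ∀ g : Y, ∀ z ∈ Zs, g * z * g⁻¹ ∈ Zs)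
    (hop : ∀ u ∈ X α, ∀ v ∈ X (-α), u ≠ 1 → v ≠ 1 → ∃ z ∈ Zs, z ∈ Subgroup.closure {u, v})
    (hphi : Phi (LC cs h X (α :: C) t) Zs c) : Phi (LC cs h X C t) Zs (m * c) := by
  have hαn := EC_neg hC L.mem
  have hnw : rep cs h w (-α) = -α := by rw [map_neg, L.fix]
  have H₁ := hzB R hs hab hcard hodd ht hC hCw L.mem L.fix L.cn
  have H₂ := hzB R hs hab hcard hodd ht hC hCw hαn hnw L.cn'
  have hle : LC cs h X (α :: C) t ≤ LC cs h X C t := inf_le_inf (RGD.Sup_mono (EC_mono α C)) le_rfl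
  refine phi_step' H₁ H₂ hphi hle (inf_le_inf (QF_le L.mem) le_rfl) (inf_le_inf (QF_le hαn) le_rfl)
    (odd_BF R hs hab hcard hodd hC L.mem) (odd_BF R hs hab hcard hodd hC hαn) ?_ ?_ (by rwa [hcard α L.mem.1])
    (by rwa [hcard _ L.mem.1.neg]) (X_ne_bot R L.mem.1) (X_ne_bot R L.mem.1.neg) hZ2 (fun g _ => hZc g) hop
  · intro l hl u hu
    exact mem_inf.2 ⟨norm_QF R hs hab hC L.mem L.mem (fun _ _ h => h) (mem_inf.1 hl).1 (mem_inf.1 hu).1,
      mul_mem (mul_mem (mem_inf.1 hl).2 (mem_inf.1 hu).2) (inv_mem (mem_inf.1 hl).2)⟩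
  · intro l hl u hu
    exact mem_inf.2 ⟨norm_QF R hs hab hC L.mem hαn (fun x _ hx => by
      rw [cpr_neg_right cs h x L.mem.1, hx, neg_zero]) (mem_inf.1 hl).1 (mem_inf.1 hu).1,
      mul_mem (mul_mem (mem_inf.1 hl).2 (mem_inf.1 hu).2) (inv_mem (mem_inf.1 hl).2)⟩

omit hodd ht in
/-- the order, fixed roots -/
theorem card_fixed {C : List (I → ℤ)} (hC : ∀ c ∈ C, IsRoot cs h c) {α : I → ℤ} (hα : α ∈ EC cs h C)
    (hcn : Cn t X α) {rs : List (I → ℤ)} (hnd : rs.Nodup) (hrs : ∀ β ∈ rs, β ∈ SF cs h C α ∧ Cn t X β) :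
    q ^ (rs.length + 1) ≤ Nat.card (BF cs h X C α t) := by
  classical
  refine card_fix (C := centralizer {t}) (heisF R hs hab hC hα) (X_ne_bot R hα.1)
    (fun z hz => mem_centralizer_singleton_iff.2 (hcn z hz).symm) hnd (fun β hβ => (hrs β hβ).1) hnd (fun _ h => h)
    (fun u i => if hi : i ∈ rs then (u ⟨i, hi⟩ : Y) else 1) ?_ ?_ ?_ (hcard α hα.1)
    (fun β hβ => hcard β (mem_SF.1 (hrs β hβ).1).1.1)
  · intro u i _
    show (if hi : i ∈ rs then (u ⟨i, hi⟩ : Y) else 1) ∈ X i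
    split_ifs with hi
    · exact (u ⟨i, hi⟩).2
    · exact one_mem _
  · intro u i
    show (if hi : (i : I → ℤ) ∈ rs then (u ⟨i, hi⟩ : Y) else 1) = u i
    rw [dif_pos i.2]
  · intro u
    unfold Heis.pr
    apply Subgroup.list_prod_mem
    intro x hx
    obtain ⟨i, hi, rfl⟩ := List.mem_map.1 hx
    show (if hi : i ∈ rs then (u ⟨i, hi⟩ : Y) else 1) ∈ _
    rw [dif_pos hi]
    exact mem_centralizer_singleton_iff.2 ((hrs i hi).2 _ (u ⟨i, hi⟩).2).symm

theorem ww_eq {c : I → ℤ} (hc : IsRoot cs h c) : rep cs h w (rep cs h w c) = c := by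
  refine X_injective R ((hc.act w).act w) hc ?_
  rw [← ht.cj _ (hc.act w), ← ht.cj _ hc, ← cj_mul, ht.tt, cj_one]

/-- the order, moved roots -/
theorem card_moved {C : List (I → ℤ)} (hC : ∀ c ∈ C, IsRoot cs h c) (hCw : ∀ c ∈ C, rep cs h w c = c) {α : I → ℤ}
    (hα : α ∈ EC cs h C) (hαw : rep cs h w α = α) (hcn : Cn t X α) {rs : List (I → ℤ)}
    (hnd : (rs ++ rs.map (rep cs h w)).Nodup) (hrs : ∀ β ∈ rs, β ∈ SF cs h C α) :
    q ^ (rs.length + 1) ≤ Nat.card (BF cs h X C α t) := by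
  classical
  have H := heisF R hs hab hC hα
  have HZ := Hz.of_heis H
  have hnd1 := (List.nodup_append.1 hnd).1
  have hdis : ∀ β ∈ rs, ∀ γ ∈ rs, β ≠ rep cs h w γ := fun β hβ γ hγ =>
    (List.nodup_append.1 hnd).2.2 β hβ _ (List.mem_map_of_mem hγ)
  have hwr : ∀ β ∈ rs, rep cs h w (rep cs h w β) = β := fun β hβ =>
    ww_eq R hs hab hcard hodd ht (mem_SF.1 (hrs β hβ)).1.1
  obtain ⟨E, hE⟩ : ∃ E : ((i : {i // i ∈ rs}) → X i) → (I → ℤ) → Y, E = fun u i =>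
    if hi : i ∈ rs then (u ⟨i, hi⟩ : Y) else
      if hi' : rep cs h w i ∈ rs then t * (u ⟨rep cs h w i, hi'⟩ : Y) * t⁻¹ else 1 := ⟨_, rfl⟩
  have hE1 : ∀ u i (hi : i ∈ rs), E u i = u ⟨i, hi⟩ := by
    intro u i hi
    rw [hE]
    simp only [dif_pos hi]
  have hE2 : ∀ u i (hi : i ∈ rs), E u (rep cs h w i) = t * E u i * t⁻¹ := by
    intro u i hi
    have h1 : rep cs h w i ∉ rs := fun h1 => hdis _ h1 _ hi rfl
    have h2 : rep cs h w (rep cs h w i) ∈ rs := by rw [hwr i hi]; exact hi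
    rw [hE1 u i hi, hE]
    simp only [dif_neg h1, dif_pos h2]
    have key : ∀ j (hj : j ∈ rs), j = i → (u ⟨j, hj⟩ : Y) = u ⟨i, hi⟩ := by
      rintro j hj rfl
      rfl
    rw [key _ h2 (hwr i hi)]
  refine card_fix (C := centralizer {t}) H (X_ne_bot R hα.1)
    (fun z hz => mem_centralizer_singleton_iff.2 (hcn z hz).symm) hnd1
    (l := rs ++ rs.map (rep cs h w)) ?_ hnd (fun _ h => List.mem_append_left _ h)
    E ?_ (fun u i => hE1 u i i.2) ?_ (hcard α hα.1) (fun β hβ => hcard β (mem_SF.1 (hrs β hβ)).1.1)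
  · intro i hi
    rcases List.mem_append.1 hi with hi | hi
    · exact hrs i hi
    · obtain ⟨j, hj, rfl⟩ := List.mem_map.1 hi
      exact SF_act ht hC hCw hα.1 hαw (hrs j hj)
  · intro u i hi
    by_cases h1 : i ∈ rs
    · rw [hE1 u i h1]
      exact (u ⟨i, h1⟩).2
    · by_cases h2 : rep cs h w i ∈ rs
      · have h3 := hE2 u _ h2
        have h4 : rep cs h w (rep cs h w i) = i := ww_eq R hs hab hcard hodd ht (mem_SF.1 hi).1.1
        rw [h4, hE1 u _ h2] at h3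
        rw [h3]
        have h5 := conj_mem_X ht.cj (mem_SF.1 (hrs _ h2)).1.1 (u ⟨_, h2⟩).2
        rwa [h4] at h5
      · rw [hE]
        simp only [dif_neg h1, dif_neg h2]
        exact one_mem _
  · intro u
    have h1 : Heis.pr (E u) (rs ++ rs.map (rep cs h w)) = Heis.pr (E u) rs * (t * Heis.pr (E u) rs * t⁻¹) := by
      unfold Heis.pr
      rw [List.map_append, List.prod_append, List.map_map]
      congr 1
      have h2 : rs.map (E u ∘ rep cs h w) = (rs.map (E u)).map (MulAut.conj t).toMonoidHom := by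
        rw [List.map_map]
        apply List.map_congr_left
        intro i hi
        exact hE2 u i hi
      rw [h2]
      exact ((MulAut.conj t).toMonoidHom.map_list_prod _).symm
    rw [h1]
    refine (mem_inf.1 (HZ.diag (by rw [hcard α hα.1]; exact hodd) ht.tt hcn
      (fun g hg => conj_QF ht hC hCw hα.1 hαw hg) ?_)).2
    refine Heis.pr_mem hrs fun i hi => ?_
    by_cases h1 : i ∈ rs
    · rw [hE1 u i h1]
      exact (u ⟨i, h1⟩).2
    · by_cases h2 : rep cs h w i ∈ rs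
      · have h3 := hE2 u _ h2
        have h4 : rep cs h w (rep cs h w i) = i := ww_eq R hs hab hcard hodd ht (mem_SF.1 hi).1.1
        rw [h4, hE1 u _ h2] at h3
        rw [h3]
        have h5 := conj_mem_X ht.cj (mem_SF.1 (hrs _ h2)).1.1 (u ⟨_, h2⟩).2
        rwa [h4] at h5
      · rw [hE]
        simp only [dif_neg h1, dif_neg h2]
        exact one_mem _

end

end Cfsg.Agent.H331.IF
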